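import Mathlib
import Groth.Prelude
import Groth.Agent.Lib.Helper8.Kos.Indep
import Groth.Agent.Lib.Helper8.LCIHom.KRMap

/-!
# The long exact sequence of Koszul cohomology for `x :: l`, concretely
-/

set_option autoImplicit false
universe u
open CategoryTheory Category Limits Pretriangulated

namespace Groth.Agent.H8.KosN
attribute [local instance] HasDerivedCategory.standard
open DRing DTen DerivedCategory Groth.Agent.H4.FB2 Groth.Agent.H4.KS1 Groth.Agent.H4.KF1
  Groth.Agent.H8.KosIndep

variable {B : Type u} [CommRing B]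

theorem homologyMap_smul' {K L : CochainComplex (ModuleCat.{u} B) ℤ} (φ : K ⟶ L) (f : B) (m : ℤ) :
    HomologicalComplex.homologyMap (f • φ) m = f • HomologicalComplex.homologyMap φ m := by
  unfold HomologicalComplex.homologyMap
  have : (HomologicalComplex.shortComplexFunctor (ModuleCat.{u} B) (ComplexShape.up ℤ) m).map
      (f • φ) =
    f • (HomologicalComplex.shortComplexFunctor (ModuleCat.{u} B) (ComplexShape.up ℤ) m).map φ := by
    ext <;> rfl
  rw [this]
  exact ShortComplex.homologyMap_smul _ _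

/-- The homology functor is compatible with scalar multiples of the identity of a complex. -/
theorem homologyFunctor_map_smul_id (K : CochainComplex (ModuleCat.{u} B) ℤ) (f : B) (m : ℤ) :
    (homologyFunctor (ModuleCat.{u} B) m).map (f • 𝟙 (Q.obj K)) =
      f • 𝟙 ((homologyFunctor (ModuleCat.{u} B) m).obj (Q.obj K)) := by
  have hm : Q.map (f • 𝟙 K) = f • 𝟙 (Q.obj K) := by
    rw [Functor.map_smul, CategoryTheory.Functor.map_id]
  rw [← hm]
  have hnat := (homologyFunctorFactors (ModuleCat.{u} B) m).hom.naturality (f • 𝟙 K)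
  have h2 : (HomologicalComplex.homologyFunctor (ModuleCat.{u} B) (ComplexShape.up ℤ) m).map
      (f • 𝟙 K) = f • 𝟙 _ := by
    change HomologicalComplex.homologyMap (f • 𝟙 K) m = _
    rw [homologyMap_smul', HomologicalComplex.homologyMap_id]
    rfl
  rw [h2] at hnat
  have h3 : (homologyFunctor (ModuleCat.{u} B) m).map (Q.map (f • 𝟙 K)) =
      ((homologyFunctorFactors (ModuleCat.{u} B) m).hom.app K ≫ (f • 𝟙 _)) ≫
        (homologyFunctorFactors (ModuleCat.{u} B) m).inv.app K := by
    rw [← hnat]
    simp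
  rw [h3, Linear.comp_smul, Linear.smul_comp, comp_id, Iso.hom_inv_id_app]
  rfl

theorem HK_map_smul (l : List B) (f : B) (m : ℤ) :
    (homologyFunctor (ModuleCat.{u} B) m).map (f • 𝟙 (kos l)) = f • 𝟙 (HK l m) :=
  homologyFunctor_map_smul_id _ f m

/-- If `H^m(K(x :: l)) = 0` then `x` acts surjectively on `H^m(K(l))`. -/
theorem smul_surjective_of_isZero (x : B) (l : List B) (m : ℤ) (h : IsZero (HK (x :: l) m)) :
    Function.Surjective fun y : HK l m => x • y := by
  obtain ⟨v, w, hT⟩ := kos_triangle x l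
  have h1 := (HomologySequence.epi_homologyMap_mor₁_iff _ hT m).mpr (h.eq_of_tgt _ _)
  change Epi ((homologyFunctor (ModuleCat.{u} B) m).map (x • 𝟙 (kos l))) at h1
  rw [HK_map_smul] at h1
  have h2 := (ModuleCat.epi_iff_surjective _).mp h1
  intro y
  obtain ⟨z, hz⟩ := h2 y
  exact ⟨z, hz⟩

/-- If `H^{m}(K(x :: l)) = 0` then `x` acts injectively on `H^{m+1}(K(l))`. -/
theorem smul_injective_of_isZero (x : B) (l : List B) (m m' : ℤ) (hm : m + 1 = m')
    (h : IsZero (HK (x :: l) m)) : Function.Injective fun y : HK l m' => x • y := by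
  obtain ⟨v, w, hT⟩ := kos_triangle x l
  have h1 := (HomologySequence.mono_homologyMap_mor₁_iff _ hT m m' hm).mpr (h.eq_of_src _ _)
  change Mono ((homologyFunctor (ModuleCat.{u} B) m').map (x • 𝟙 (kos l))) at h1
  rw [HK_map_smul] at h1
  exact (ModuleCat.mono_iff_injective _).mp h1

end Groth.Agent.H8.KosN
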