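import Mathlib
import Groth.Prelude
import Groth.Agent.Lib.Helper8.KosN.LES

/-!
# (N): in a Noetherian local ring a Koszul-regular sequence in the maximal ideal is regular
-/

set_option autoImplicit false
universe u
open CategoryTheory Category Limits Pretriangulated

namespace Groth.Agent.H8.KosN
attribute [local instance] HasDerivedCategory.standard
open DRing DTen DerivedCategory Groth.Agent.H4.FB2 Groth.Agent.H4.KS1 Groth.Agent.H4.KF1
  Groth.Agent.H8.KosIndep RingTheory.Sequence

variable {B : Type u} [CommRing B]

/-- Exactness of `H^m(K(l)) ⟶ H^m(K(x :: l)) ⟶ H^{m+1}(K(l))`. -/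
theorem exists_exact_HK (x : B) (l : List B) (m : ℤ) :
    ∃ (a : HK l m →ₗ[B] HK (x :: l) m) (b : HK (x :: l) m →ₗ[B] HK l (m + 1)),
      Function.Exact a b := by
  obtain ⟨v, w, hT⟩ := kos_triangle x l
  have h := HomologySequence.exact₃ _ hT m (m + 1) rfl
  exact ⟨_, _, (ShortComplex.ShortExact.moduleCat_exact_iff_function_exact _).1 h⟩

theorem isNoetherian_HK [IsNoetherianRing B] : ∀ (l : List B) (m : ℤ), IsNoetherian B (HK l m)
  | [], m => by
    by_cases hm : m = 0
    · subst hm
      obtain ⟨e⟩ := nonempty_HK_zero_equiv ([] : List B)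
      exact isNoetherian_of_linearEquiv e.symm
    · have hz := (isKoszulRegularSeq_iff_HK ([] : List B)).mp
        Groth.Agent.H8.LCIHom.isKoszulRegularSeq_nil m hm
      have := ModuleCat.subsingleton_of_isZero hz
      infer_instance
  | x :: l, m => by
    obtain ⟨a, b, hab⟩ := exists_exact_HK x l m
    have := isNoetherian_HK l m
    have := isNoetherian_HK l (m + 1)
    exact isNoetherian_of_range_eq_ker a b hab.linearMap_ker_eq.symm

theorem isZero_HK_of_smul_surjective [IsNoetherianRing B] [IsLocalRing B] (l : List B) (m : ℤ)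
    (x : B) (hx : x ∈ IsLocalRing.maximalIdeal B)
    (h : Function.Surjective fun y : HK l m => x • y) : IsZero (HK l m) := by
  have := isNoetherian_HK l m
  have hfg : (⊤ : Submodule B (HK l m)).FG := IsNoetherian.noetherian _
  have hle : (⊤ : Submodule B (HK l m)) ≤ Ideal.span {x} • ⊤ := by
    intro y _
    obtain ⟨z, rfl⟩ := h y
    exact Submodule.smul_mem_smul (Ideal.subset_span rfl) trivial
  have hjac : Ideal.span {x} ≤ Ideal.jacobson ⊥ := by
    rw [IsLocalRing.jacobson_eq_maximalIdeal ⊥ bot_ne_top, Ideal.span_le]
    simpa using hx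
  have := Submodule.eq_bot_of_le_smul_of_le_jacobson_bot _ _ hfg hle hjac
  have : Subsingleton (HK l m) := by
    rw [← Submodule.subsingleton_iff B, ← subsingleton_iff_bot_eq_top]
    exact this.symm
  exact ModuleCat.isZero_of_subsingleton _

/-- **(N)**: over a Noetherian local ring, a Koszul-regular sequence contained in the maximal
ideal is a regular sequence. -/
theorem isRegular_of_isKoszulRegularSeq [IsNoetherianRing B] [IsLocalRing B] :
    ∀ (l : List B), (∀ x ∈ l, x ∈ IsLocalRing.maximalIdeal B) → LCI.IsKoszulRegularSeq B l →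
      IsRegular B l
  | [], _, _ => IsRegular.nil B B
  | x :: l, hmem, hKR => by
    have hx : x ∈ IsLocalRing.maximalIdeal B := hmem x List.mem_cons_self
    have hl : ∀ y ∈ l, y ∈ IsLocalRing.maximalIdeal B := fun y hy =>
      hmem y (List.mem_cons_of_mem _ hy)
    have hHK := (isKoszulRegularSeq_iff_HK (x :: l)).mp hKR
    have hKRl : LCI.IsKoszulRegularSeq B l := by
      rw [isKoszulRegularSeq_iff_HK]
      intro m hm
      rcases lt_or_gt_of_ne hm with h | h
      · exact isZero_HK_of_smul_surjective l m x hx
          (smul_surjective_of_isZero x l m (hHK m hm))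
      · exact isZero_HK_of_pos l m h
    have ih := isRegular_of_isKoszulRegularSeq l hl hKRl
    have hinj := smul_injective_of_isZero x l (-1) 0 (by norm_num) (hHK (-1) (by norm_num))
    obtain ⟨e⟩ := nonempty_HK_zero_equiv l
    have hreg : IsSMulRegular (B ⧸ (Ideal.ofList l • ⊤ : Submodule B B)) x := by
      have heq : (Ideal.ofList l • ⊤ : Submodule B B) = Ideal.span {y | y ∈ l} := by
        rw [smul_eq_mul, Ideal.mul_top]
      let e' : HK l 0 ≃ₗ[B] (B ⧸ (Ideal.ofList l • ⊤ : Submodule B B)) :=
        e.trans (Submodule.quotEquivOfEq _ _ heq.symm)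
      intro a b hab
      apply e'.symm.injective
      apply hinj
      change x • e'.symm a = x • e'.symm b
      rw [← map_smul, ← map_smul]
      exact congrArg _ hab
    have hwr : IsWeaklyRegular B (l ++ [x]) := by
      rw [isWeaklyRegular_append_iff]
      exact ⟨ih.toIsWeaklyRegular, (isWeaklyRegular_singleton_iff _ x).mpr hreg⟩
    have hreg' : IsRegular B (l ++ [x]) := by
      rw [IsLocalRing.isRegular_iff_isWeaklyRegular_of_subset_maximalIdeal]
      · exact hwr
      · intro r hr
        rcases List.mem_append.mp hr with h | h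
        · exact hl r h
        · rw [List.mem_singleton] at h
          exact h ▸ hx
    exact IsLocalRing.isRegular_of_perm hreg' (List.perm_append_singleton x l)

end Groth.Agent.H8.KosN
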