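import Mathlib
import Groth.Agent.Lib.Helper8.KosDesc.Tors
import Groth.Agent.Lib.Helper8.ExtScalarsBridge

/-! Local-global principle for Koszul-regularity. -/

universe u
open CategoryTheory CategoryTheory.Limits TensorProduct

namespace Groth.Agent.H8.KosN

variable {R : Type u} [CommRing R]

theorem isKoszulRegularSeq_of_forall_maximal (l : List R)
    (h : ∀ (𝔪 : Ideal R) [𝔪.IsMaximal], LCI.IsKoszulRegularSeq (Localization.AtPrime 𝔪)
      (l.map (algebraMap R (Localization.AtPrime 𝔪)))) :
    LCI.IsKoszulRegularSeq R l := by
  intro i hi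
  rw [ModuleCat.isZero_iff_subsingleton]
  refine Module.subsingleton_of_localization_maximal
    (fun (P : Ideal R) [P.IsMaximal] =>
      Localization.AtPrime P ⊗[R] ((Koszul.koszul R l).homology i : ModuleCat.{u} R))
    (fun (P : Ideal R) [P.IsMaximal] => TensorProduct.mk R (Localization.AtPrime P) _ 1) ?_
  intro P hP
  have : Module.Flat R (Localization.AtPrime P) := IsLocalization.flat _ P.primeCompl
  have hz := Groth.Agent.H8.RGCI.isZero_extendScalars_homology (B := Localization.AtPrime P) l
    (h P) i hi
  rw [ModuleCat.isZero_iff_subsingleton] at hz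
  exact (Groth.Agent.H8.ExtBridge.extEquiv (A := R) (B := Localization.AtPrime P)
    ((Koszul.koszul R l).homology i)).symm.toEquiv.subsingleton

end Groth.Agent.H8.KosN
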