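import Mathlib
import Groth.Prelude
import Groth.Agent.Lib.Helper8.KosN.Reg
import Groth.Agent.Lib.Helper8.KosN.LocGlob
import Groth.Agent.Lib.Helper8.KosDesc.Sat
import Groth.Agent.Lib.Helper1.ArtinFlatReg
import Groth.Agent.Lib.Helper1.FlatNilpotent
import Groth.Agent.S15821
import Groth.Agent.H4.KosBC

/-!
# Lifting Koszul-regular sequences along a thickening of an Artinian local base
-/

set_option autoImplicit false
universe u
open IsLocalRing

namespace Groth.Agent.H8.KosN

section loc

variable (A : Type u) [CommRing A] [IsLocalRing A] [IsArtinianRing A] (I : Ideal A) (hI : I ≠ ⊤)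
  (S : Type u) [CommRing S] [Algebra A S] [Module.Flat A S] [IsNoetherianRing S] [IsLocalRing S]

include hI in
theorem local_lift (l : List S)
    (hl : LCI.IsKoszulRegularSeq (S ⧸ I.map (algebraMap A S))
      (l.map (Ideal.Quotient.mk (I.map (algebraMap A S))))) :
    LCI.IsKoszulRegularSeq S l ∧ Module.Flat A (S ⧸ Ideal.ofList l) := by
  by_cases htop : Ideal.ofList l = ⊤
  · refine ⟨Groth.Agent.H8.RGCI.isKoszulRegularSeq_of_span_eq_top l htop, ?_⟩
    have : Subsingleton (S ⧸ Ideal.ofList l) := by
      rw [htop]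
      exact Ideal.Quotient.subsingleton_iff.mpr rfl
    infer_instance
  · have hle : Ideal.ofList l ≤ maximalIdeal S := le_maximalIdeal htop
    set J := I.map (algebraMap A S) with hJ
    have hJnil : IsNilpotent J := Groth.Agent.H1.ArtinFlatReg.isNilpotent_map A I hI
    have hJle : J ≤ maximalIdeal S := by
      obtain ⟨n, hn⟩ := hJnil
      intro x hx
      have h1 : x ^ n ∈ J ^ n := Ideal.pow_mem_pow hx n
      rw [hn] at h1
      have h2 : x ^ n = 0 := h1
      by_contra hx'
      have hu : IsUnit x := by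
        by_contra hnu
        exact hx' ((mem_maximalIdeal x).mpr hnu)
      have := hu.pow n
      rw [h2] at this
      exact not_isUnit_zero this
    have hJtop : J ≠ ⊤ := fun h => (maximalIdeal.isMaximal S).ne_top (top_le_iff.mp (h ▸ hJle))
    have : Nontrivial (S ⧸ J) := Ideal.Quotient.nontrivial_iff.mpr hJtop
    have : IsLocalRing (S ⧸ J) :=
      IsLocalRing.of_surjective' (Ideal.Quotient.mk J) Ideal.Quotient.mk_surjective
    have hmem : ∀ y ∈ l.map (Ideal.Quotient.mk J), y ∈ maximalIdeal (S ⧸ J) := by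
      intro y hy
      obtain ⟨x, hx, rfl⟩ := List.mem_map.mp hy
      have hxm : x ∈ maximalIdeal S := hle (Ideal.subset_span hx)
      rw [mem_maximalIdeal, mem_nonunits_iff] at hxm ⊢
      intro hu
      have : IsLocalHom (Ideal.Quotient.mk J) :=
        IsLocalHom.of_surjective _ Ideal.Quotient.mk_surjective
      exact hxm (isUnit_of_map_unit (Ideal.Quotient.mk J) x hu)
    have hreg := isRegular_of_isKoszulRegularSeq (l.map (Ideal.Quotient.mk J)) hmem hl
    have hreg' := (Groth.Agent.H1.ArtinFlatReg.isRegular_iff_quotient_ring A I hI S l).mpr hreg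
    exact ⟨(Groth.Agent.S15821.result S l hreg'.toIsWeaklyRegular).1,
      Groth.Agent.H1.ArtinFlatReg.flat_quotient_ofList A I hI S l hreg.toIsWeaklyRegular⟩

include hI in
theorem local_lift' (K : Ideal S) (hK : K = I.map (algebraMap A S)) (l : List S)
    (hl : LCI.IsKoszulRegularSeq (S ⧸ K) (l.map (Ideal.Quotient.mk K))) :
    LCI.IsKoszulRegularSeq S l ∧ Module.Flat A (S ⧸ Ideal.ofList l) := by
  subst hK
  exact local_lift A I hI S l hl

end loc

section glob

variable (A : Type u) [CommRing A] [IsLocalRing A] [IsArtinianRing A] (I : Ideal A) (hI : I ≠ ⊤)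
  (R : Type u) [CommRing R] [Algebra A R] [Module.Flat A R] [IsNoetherianRing R]

omit [IsLocalRing A] [IsArtinianRing A] [Module.Flat A R] [IsNoetherianRing R] in
theorem flat_quotient_map {R S : Type u} [CommRing R] [CommRing S] [Algebra R S] [Module.Flat R S]
    (J : Ideal R) : Module.Flat (R ⧸ J) (S ⧸ J.map (algebraMap R S)) :=
  Module.Flat.of_linearEquiv
    (Algebra.TensorProduct.quotIdealMapEquivQuotTensor S J).toLinearEquiv

include hI in
/-- At a prime of `R`: lifts of a Koszul-regular sequence of `R/IR` are Koszul-regular in the local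
ring and the quotient is flat over `A`. -/
theorem atPrime_lift (𝔮 : Ideal R) [𝔮.IsPrime] (l' : List R)
    (hl : LCI.IsKoszulRegularSeq (R ⧸ I.map (algebraMap A R))
      (l'.map (Ideal.Quotient.mk (I.map (algebraMap A R))))) :
    LCI.IsKoszulRegularSeq (Localization.AtPrime 𝔮) (l'.map (algebraMap R (Localization.AtPrime 𝔮))) ∧
      Module.Flat A (Localization.AtPrime 𝔮 ⧸
        Ideal.ofList (l'.map (algebraMap R (Localization.AtPrime 𝔮)))) := by
  set S := Localization.AtPrime 𝔮
  set J := I.map (algebraMap A R) with hJ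
  have hK : J.map (algebraMap R S) = I.map (algebraMap A S) := by
    rw [hJ, Ideal.map_map, ← IsScalarTower.algebraMap_eq]
  have : Module.Flat R S := IsLocalization.flat _ 𝔮.primeCompl
  have hfl : Module.Flat (R ⧸ J) (S ⧸ J.map (algebraMap R S)) := flat_quotient_map J
  refine local_lift' A I hI S (J.map (algebraMap R S)) hK _ ?_
  have h1 := Groth.Agent.H4.KosBC.isKoszulRegularSeq_map (A := R ⧸ J)
    (B := S ⧸ J.map (algebraMap R S)) _ hl
  rw [List.map_map] at h1 ⊢
  exact h1

include hI in
theorem global_lift (l' : List R)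
    (hl : LCI.IsKoszulRegularSeq (R ⧸ I.map (algebraMap A R))
      (l'.map (Ideal.Quotient.mk (I.map (algebraMap A R))))) :
    LCI.IsKoszulRegularSeq R l' ∧ Module.Flat A (R ⧸ Ideal.ofList l') := by
  refine ⟨isKoszulRegularSeq_of_forall_maximal l' fun 𝔪 _ =>
    (atPrime_lift A I hI R 𝔪 l' hl).1, ?_⟩
  refine Module.flat_of_isLocalized_maximal (R := A) R (R ⧸ Ideal.ofList l')
    (fun (P : Ideal R) [P.IsMaximal] => Localization.AtPrime P ⧸
      (Ideal.ofList l').localized' (Localization.AtPrime P) P.primeCompl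
        (Algebra.linearMap R (Localization.AtPrime P)))
    (fun (P : Ideal R) [P.IsMaximal] =>
      (Ideal.ofList l').toLocalizedQuotient' (Localization.AtPrime P) P.primeCompl
        (Algebra.linearMap R (Localization.AtPrime P))) ?_
  intro P hP
  have h2 := (atPrime_lift A I hI R P l' hl).2
  have heq : (Ideal.ofList l').localized' (Localization.AtPrime P) P.primeCompl
      (Algebra.linearMap R (Localization.AtPrime P)) =
      Ideal.ofList (l'.map (algebraMap R (Localization.AtPrime P))) := by
    rw [Ideal.localized'_eq_map, Ideal.map_ofList]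
  exact Module.Flat.of_linearEquiv
    ((Submodule.quotEquivOfEq _ _ heq).restrictScalars A)

omit [IsLocalRing A] [IsArtinianRing A] [Module.Flat A R] [IsNoetherianRing R] in
theorem mk_mem_smul_top_iff (L : Ideal R) (x : R) :
    (Submodule.Quotient.mk x : R ⧸ L) ∈ I • (⊤ : Submodule A (R ⧸ L)) ↔
      x ∈ L ⊔ I.map (algebraMap A R) := by
  rw [← Groth.Agent.H1.ArtinFlatReg.mem_map_smul_top_iff (R := R) A I (R ⧸ L)]
  have h1 : (I.map (algebraMap A R)) • (⊤ : Submodule R (R ⧸ L)) =
      Submodule.map L.mkQ (I.map (algebraMap A R)) := by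
    have h2 : (⊤ : Submodule R (R ⧸ L)) = Submodule.map L.mkQ ⊤ := by
      rw [Submodule.map_top, Submodule.range_mkQ]
    rw [h2, ← Submodule.map_smul'', smul_eq_mul, Ideal.mul_top]
  rw [h1, Submodule.mem_map]
  constructor
  · rintro ⟨y, hy, hxy⟩
    have h3 : y - x ∈ L := (Submodule.Quotient.eq L).mp hxy
    have h4 : x = (x - y) + y := by ring
    rw [h4]
    exact Ideal.add_mem _ (Ideal.mem_sup_left (by simpa using L.neg_mem h3))
      (Ideal.mem_sup_right hy)
  · intro hx
    obtain ⟨a, ha, b, hb, rfl⟩ := Submodule.mem_sup.mp hx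
    refine ⟨b, hb, ?_⟩
    apply (Submodule.Quotient.eq L).mpr
    simpa using L.neg_mem ha

omit [Module.Flat A R] [IsNoetherianRing R] in
include hI in
/-- Part (2): uniqueness of the flat lift of the ideal. -/
theorem ideal_eq_of_flat (K J' : Ideal R) (hKJ : K ≤ J') [Module.Flat A (R ⧸ K)]
    [Module.Flat A (R ⧸ J')]
    (hmap : K.map (Ideal.Quotient.mk (I.map (algebraMap A R))) =
      J'.map (Ideal.Quotient.mk (I.map (algebraMap A R)))) : J' = K := by
  refine le_antisymm ?_ hKJ
  set J := I.map (algebraMap A R) with hJ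
  have hsup : K ⊔ J = J' ⊔ J := by
    have h1 := Ideal.comap_map_of_surjective (Ideal.Quotient.mk J) Ideal.Quotient.mk_surjective K
    have h2 := Ideal.comap_map_of_surjective (Ideal.Quotient.mk J) Ideal.Quotient.mk_surjective J'
    rw [← RingHom.ker_eq_comap_bot, Ideal.mk_ker] at h1 h2
    rw [← h1, ← h2, hmap]
  let π : (R ⧸ K) →ₗ[A] (R ⧸ J') := (Submodule.mapQ K J' LinearMap.id hKJ).restrictScalars A
  have hπ : ∀ x : R, π (Submodule.Quotient.mk x) = Submodule.Quotient.mk x := fun x => rfl
  have hsurj : Function.Surjective π := by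
    intro y
    obtain ⟨x, rfl⟩ := Submodule.Quotient.mk_surjective _ y
    exact ⟨Submodule.Quotient.mk x, hπ x⟩
  have hInil : IsNilpotent I := by
    obtain ⟨n, hn⟩ := Groth.Agent.H1.ArtinFlatReg.isNilpotent_maximalIdeal A
    refine ⟨n, ?_⟩
    have h1 : I ^ n ≤ IsLocalRing.maximalIdeal A ^ n :=
      Ideal.pow_right_mono (IsLocalRing.le_maximalIdeal hI) n
    rw [hn, Ideal.zero_eq_bot, le_bot_iff] at h1
    exact h1
  have hinj : Function.Injective π := by
    refine Groth.Agent.H1.injective_of_lTensor_injective_of_isNilpotent hInil π hsurj ?_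
    rw [Groth.Agent.H1.ArtinFlatReg.lTensor_quotient_injective_iff]
    intro m hm
    obtain ⟨x, rfl⟩ := Submodule.Quotient.mk_surjective _ m
    rw [hπ, mk_mem_smul_top_iff] at hm
    rw [mk_mem_smul_top_iff, hsup]
    exact hm
  intro x hx
  have h0 : π (Submodule.Quotient.mk x) = 0 := by
    rw [hπ]
    exact (Submodule.Quotient.mk_eq_zero J').mpr hx
  have h1 : (Submodule.Quotient.mk x : R ⧸ K) = 0 := hinj (by rw [h0, map_zero])
  exact (Submodule.Quotient.mk_eq_zero K).mp h1

end glob

end Groth.Agent.H8.KosN
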